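import Mathlib
import Cfsg.Prelude.Def_SporCoxeter

/-! Sub-presentations of the Suzuki-group presentation (generators a..f, a..e, a..d with the
relators of `Cfsg.Spor.Suz` that only involve these letters).  Used to bound `|Suz|` from above. -/

set_option autoImplicit false

namespace Cfsg.Agent.Helper17.SuzSub

namespace SuzP1

inductive Gen
  | a
  | b
  | c
  | d
  | e
  | f
  deriving DecidableEq

abbrev a : FreeGroup Gen := FreeGroup.of Gen.a
abbrev b : FreeGroup Gen := FreeGroup.of Gen.b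
abbrev c : FreeGroup Gen := FreeGroup.of Gen.c
abbrev d : FreeGroup Gen := FreeGroup.of Gen.d
abbrev e : FreeGroup Gen := FreeGroup.of Gen.e
abbrev f : FreeGroup Gen := FreeGroup.of Gen.f

def edges : List (Gen × ℕ × Gen) :=
  [(.a, 5, .b), (.b, 3, .c), (.c, 8, .d), (.d, 3, .e), (.b, 3, .f)]

def extra : List (FreeGroup Gen) := [
  a * ((c * d) ^ 4)⁻¹,
  (a * b * c * f) ^ 5,
  ((b * c * d * c * d) ^ 5 * e) ^ 3 ]

end SuzP1

namespace SuzP2

inductive Gen
  | a
  | b
  | c
  | d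
  | e
  deriving DecidableEq

abbrev a : FreeGroup Gen := FreeGroup.of Gen.a
abbrev b : FreeGroup Gen := FreeGroup.of Gen.b
abbrev c : FreeGroup Gen := FreeGroup.of Gen.c
abbrev d : FreeGroup Gen := FreeGroup.of Gen.d
abbrev e : FreeGroup Gen := FreeGroup.of Gen.e

def edges : List (Gen × ℕ × Gen) :=
  [(.a, 5, .b), (.b, 3, .c), (.c, 8, .d), (.d, 3, .e)]

def extra : List (FreeGroup Gen) := [
  a * ((c * d) ^ 4)⁻¹,
  ((b * c * d * c * d) ^ 5 * e) ^ 3 ]

end SuzP2

namespace SuzP3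

inductive Gen
  | a
  | b
  | c
  | d
  deriving DecidableEq

abbrev a : FreeGroup Gen := FreeGroup.of Gen.a
abbrev b : FreeGroup Gen := FreeGroup.of Gen.b
abbrev c : FreeGroup Gen := FreeGroup.of Gen.c
abbrev d : FreeGroup Gen := FreeGroup.of Gen.d

def edges : List (Gen × ℕ × Gen) :=
  [(.a, 5, .b), (.b, 3, .c), (.c, 8, .d)]

def extra : List (FreeGroup Gen) := [
  a * ((c * d) ^ 4)⁻¹ ]

end SuzP3

end Cfsg.Agent.Helper17.SuzSub
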